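import Cfsg.Agent.Lib.SThreeFree.Sections
import Cfsg.Agent.Lib.LocalEven.SFourFreeEmbedded
import Cfsg.Agent.Lib.Recog.J1FromOrder.Centre
import Cfsg.Agent.Lib.Recog.J1Unique.Recognise
import Cfsg.Agent.Lib.ThreePrime.Final
import Cfsg.Agent.Lib.Classical.Dickson.ClassifyPlatonic
import Cfsg.Agent.S2796
import Cfsg.Agent.S2755
import Cfsg.Agent.S2759
import Cfsg.Agent.S0222
import Cfsg.Agent.S0205

/-!
Owner: helper21. S2754: the simple groups without section `S₄` are the Goldschmidt groups, given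
Goldschmidt's theorem and the list of simple groups with abelian Sylow 2-subgroups.
-/

set_option autoImplicit false
set_option linter.unusedSectionVars false
set_option linter.style.haveILetI false

namespace CfsgLib.LocalEven.GoldList

open Subgroup CfsgLib.LocalEven.Factor

universe u

/-- The classification of simple groups without section `S₄`, up to a given order. -/
def Below (n : ℕ) : Prop :=
  ∀ (Y : Type u) [Group Y] [Finite Y] [IsSimpleGroup Y], Nat.card Y < n → ¬ IsMulCommutative Y →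
    ¬ Cfsg.Involves (Equiv.Perm (Fin 4)) Y → Cfsg.IsGoldschmidtGroup Y

theorem good_constrained {G : Type u} [Group G] [Finite G] {n : ℕ} (ih : Below.{u} n)
    (hn : Nat.card G ≤ n) (hfree : ¬ Cfsg.Involves (Equiv.Perm (Fin 4)) G)
    (hc : centralizer (Cfsg.pCore 2 G : Set G) ≤ Cfsg.pCore 2 G) : Good G := by
  haveI : Fact (Nat.Prime 2) := ⟨Nat.prime_two⟩
  set T := Cfsg.pCore 2 G with hT
  have hTp : IsPGroup 2 T := CfsgLib.Core.isPGroup_pCore 2 G
  haveI hTn : T.Normal := CfsgLib.LocalEven.pCore_normal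
  by_cases hT0 : T = ⊥
  · have : Subsingleton G := ⟨fun a b => by
      have h : ∀ x : G, x = 1 := fun x => by
        have : x ∈ T := hc (mem_centralizer_iff.2 fun y hy => by
          rw [hT0, SetLike.mem_coe, mem_bot] at hy
          rw [hy, one_mul, mul_one])
        rwa [hT0, mem_bot] at this
      rw [h a, h b]⟩
    haveI : Group.IsSolvable G := inferInstance
    exact good_of_isSolvable
  set C := centralizer (T : Set G) with hC
  haveI hCn : C.Normal := hC ▸ inferInstance
  -- the group induced on `T` has no section `S₃`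
  have h3 : ¬ Cfsg.Involves (Equiv.Perm (Fin 3)) (G ⧸ C) := by
    intro h
    refine hfree (Cfsg.Agent.S2759.result.2 ⟨T, hTp, ?_⟩)
    set N := normalizer (T : Set G) with hN
    have hNtop : N = ⊤ := normalizer_eq_top_iff.2 hTn
    let π : ↥N →* G ⧸ C := (QuotientGroup.mk' C).comp N.subtype
    have hπ : Function.Surjective π := fun z => by
      obtain ⟨g, rfl⟩ := QuotientGroup.mk'_surjective C z
      exact ⟨⟨g, hNtop.ge (mem_top g)⟩, rfl⟩
    have hker : π.ker = C.subgroupOf N := by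
      ext x
      exact (QuotientGroup.eq_one_iff _).trans mem_subgroupOf.symm
    let e : ↥N ⧸ C.subgroupOf N ≃* G ⧸ C :=
      (QuotientGroup.quotientMulEquivOfEq hker.symm).trans
        (QuotientGroup.quotientKerEquivOfSurjective π hπ)
    exact SThreeFree.involves_quotient e.toMonoidHom e.surjective h
  have hCne : C ≠ ⊥ := by
    haveI : Nontrivial T := (Subgroup.nontrivial_iff_ne_bot T).2 hT0
    haveI := hTp.center_nontrivial
    obtain ⟨⟨z, hz⟩, hz1⟩ := exists_ne (1 : center (↥T : Type u))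
    intro hbot
    have : (z : G) ∈ C := mem_centralizer_iff.2 fun y hy =>
      congrArg Subtype.val (mem_center_iff.1 hz ⟨y, hy⟩)
    rw [hbot, mem_bot] at this
    exact hz1 (Subtype.ext (Subtype.ext this))
  have hlt : Nat.card (G ⧸ C) < Nat.card G := by
    rw [Subgroup.card_eq_card_quotient_mul_card_subgroup C]
    refine lt_mul_of_one_lt_right Nat.card_pos ?_
    by_contra hle
    exact hCne (Subgroup.card_eq_one.1 (le_antisymm (not_lt.1 hle) Nat.card_pos))
  refine good_of_extension C ?_ ?_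
  · haveI : Group.IsSolvable C := by
      haveI := (hTp.to_le hc).isNilpotent
      infer_instance
    exact good_of_isSolvable
  · intro L hL N hN hs hna
    haveI := hs
    have hcard : Nat.card (L ⧸ N) < n := by
      refine lt_of_le_of_lt ?_ (lt_of_lt_of_le hlt hn)
      exact (Nat.card_le_card_of_surjective _ (QuotientGroup.mk'_surjective N)).trans
        (Subgroup.card_le_card_group L)
    have h3' : ¬ Cfsg.Involves (Equiv.Perm (Fin 3)) (L ⧸ N) := fun h =>
      h3 (SThreeFree.involves_section L N h)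
    exact (Cfsg.Agent.S2755.result
      (ih (L ⧸ N) hcard hna (SThreeFree.not_involves_four h3'))).2.1 h3'

/-- The groups of Ree type of the list are of Ree type. -/
theorem isReeType_of_ctx {G : Type u} [Group G] {F : Type} [Field F] [Fintype F] [CharP F 3]
    (c : GoldS.Ctx G F) : Cfsg.IsReeType G := by
  haveI : Fact (Nat.Prime 3) := ⟨Nat.prime_three⟩
  obtain ⟨f, hf⟩ : ∃ f : ℕ, Fintype.card F = 3 ^ f := by
    obtain ⟨f, -, hf⟩ := FiniteField.card F 3
    exact ⟨f, hf⟩
  have hodd : ∃ k, f = 2 * k + 1 ∧ 1 ≤ k := by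
    obtain ⟨k, rfl | rfl⟩ : ∃ k, f = 2 * k ∨ f = 2 * k + 1 := ⟨f / 2, by omega⟩
    · have h8 := c.hq
      rw [hf, pow_mul, Nat.pow_mod] at h8
      norm_num at h8
    · refine ⟨k, rfl, ?_⟩
      by_contra hk
      have hb := c.hbig
      rw [hf, show k = 0 by omega] at hb
      norm_num at hb
  obtain ⟨k, rfl, hk⟩ := hodd
  refine ⟨c.simp, c.ncomm, c.t, c.ι.range, k, hk, c.ht, c.hidx, ⟨?_, ?_, ?_, ?_, ?_⟩,
    F, inferInstance, inferInstance, hf, ⟨(MonoidHom.ofInjective c.inj).symm⟩⟩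
  · exact zpowers_le.2 (mem_centralizer_singleton_iff.2 rfl)
  · rintro _ ⟨x, rfl⟩
    exact mem_centralizer_singleton_iff.2 (c.ι_comm x)
  · rintro a ha _ ⟨x, rfl⟩
    obtain ⟨i, rfl⟩ := mem_zpowers_iff.1 ha
    exact (Commute.zpow_left (show Commute c.t (c.ι x) from (c.ι_comm x).symm) i).eq
  · refine (Subgroup.eq_bot_iff_forall _).2 fun x hx => ?_
    obtain ⟨i, rfl⟩ := mem_zpowers_iff.1 hx.1
    obtain ⟨j, rfl | rfl⟩ := Int.even_or_odd' i
    · rw [zpow_mul, zpow_two, c.t_sq, one_zpow]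
    · have h := hx.2
      rw [zpow_add_one, zpow_mul, zpow_two, c.t_sq, one_zpow, one_mul] at h
      exact absurd h c.tnot
  · refine le_antisymm (sup_le (zpowers_le.2 (mem_centralizer_singleton_iff.2 rfl)) ?_) fun x hx => ?_
    · rintro _ ⟨x, rfl⟩
      exact mem_centralizer_singleton_iff.2 (c.ι_comm x)
    · rcases (c.hC x).1 (mem_centralizer_singleton_iff.1 hx) with h | h
      · exact mem_sup_right h
      · have := mul_mem (mem_sup_left (T := c.ι.range) (inv_mem (mem_zpowers c.t)))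
          (mem_sup_right (S := zpowers c.t) h)
        rwa [inv_mul_cancel_left] at this

/-- The simple groups of order 175560 are isomorphic to `J₁`. -/
theorem isoJ1_of_isJ1 {G : Type u} [Group G] [Finite G] (h : Cfsg.IsJ1 G) : Cfsg.Spor.IsoJ1 G := by
  haveI := h.1
  obtain ⟨t, ht, ⟨e⟩⟩ := CfsgLib.Recog.J1FromOrder.exists_local h.2
  exact CfsgLib.Recog.J1Unique.iso_J1 t ht e

/-- A group `L₂(4)` is a group `L₂(5)`. -/
theorem isGoldschmidtGroup_four {G : Type u} [Group G] {F : Type} [Field F] [Fintype F]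
    (hF : Fintype.card F = 4)
    (e : G ≃* Matrix.ProjectiveSpecialLinearGroup (Fin 2) F) : Cfsg.IsGoldschmidtGroup G := by
  haveI : Fact (Nat.Prime 5) := ⟨by norm_num⟩
  obtain ⟨e₄⟩ := CfsgLib.Classical.Dickson.psl_four_five_equiv (K := F) (Or.inl hF)
  obtain ⟨e₅⟩ := CfsgLib.Classical.Dickson.psl_four_five_equiv (K := ZMod 5) (Or.inr (ZMod.card 5))
  exact Or.inr (Or.inr (Or.inr (Or.inr (Or.inl
    ⟨ZMod 5, inferInstance, inferInstance, 5, ZMod.card 5, le_rfl, Or.inr rfl,
      ⟨(e.trans e₄.symm).trans e₅⟩⟩))))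

theorem isGoldschmidtGroup_two {G : Type u} [Group G] {F : Type} [Field F] [Fintype F] {n : ℕ}
    (hn : 2 ≤ n) (hF : Fintype.card F = 2 ^ n)
    (e : G ≃* Matrix.ProjectiveSpecialLinearGroup (Fin 2) F) : Cfsg.IsGoldschmidtGroup G := by
  rcases hn.lt_or_eq with h | h
  · exact Or.inr (Or.inl ⟨F, inferInstance, inferInstance, n, h, hF, ⟨e⟩⟩)
  · subst h
    exact isGoldschmidtGroup_four (by rw [hF]; norm_num) e

/-- The conclusions of Bender's theorem are Goldschmidt groups. -/
theorem isGoldschmidtGroup_of_embedded {G : Type u} [Group G] [Finite G] [IsSimpleGroup G]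
    (hna : ¬ IsMulCommutative G) {H : Subgroup G} (hH : Cfsg.IsStronglyEmbedded H) :
    Cfsg.IsGoldschmidtGroup G := by
  haveI : Fact (Nat.Prime 2) := ⟨Nat.prime_two⟩
  have hna' : ∃ a b : G, a * b ≠ b * a := by
    by_contra h
    push Not at h
    exact hna ⟨⟨h⟩⟩
  rcases Cfsg.Agent.S0222.result hna' H hH with
    ⟨F, _, _, hchar, h4, ⟨e⟩⟩ | hsz | ⟨F, _, _, q, hq, heven, h4, ⟨e⟩⟩
  · obtain ⟨f, -, hf⟩ := FiniteField.card F 2
    refine isGoldschmidtGroup_two (n := (f : ℕ)) ?_ hf e
    by_contra hlt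
    have : (f : ℕ) = 1 ∨ (f : ℕ) = 0 := by omega
    rcases this with h | h <;> rw [hf, h] at h4 <;> norm_num at h4
  · refine Or.inr (Or.inr (Or.inl (CfsgLib.ThreePrime.goal_result G hsz.1 hna ?_)))
    obtain ⟨-, k, -, hcard⟩ := hsz
    rw [hcard]
    set Q := 2 ^ (2 * k + 1)
    have hQ : Q % 3 = 2 := by
      show 2 ^ (2 * k + 1) % 3 = 2
      rw [pow_succ, pow_mul, Nat.mul_mod, Nat.pow_mod]; norm_num
    clear_value Q
    intro h3
    rcases (Nat.prime_three.dvd_mul).1 h3 with h | h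
    · rcases (Nat.prime_three.dvd_mul).1 h with h | h
      · have := Nat.prime_three.dvd_of_dvd_pow h
        omega
      · have h2 : (Q ^ 2 + 1) % 3 = 2 := by rw [Nat.add_mod, Nat.pow_mod, hQ]
        omega
    · omega
  · obtain ⟨k, hk⟩ : ∃ k : ℕ, q = 2 ^ k := by
      obtain ⟨p, hp⟩ := CharP.exists F
      haveI : Fact p.Prime := ⟨CharP.char_is_prime F p⟩
      obtain ⟨f, -, hf⟩ := FiniteField.card F p
      have h2 : 2 ∣ p ^ (f : ℕ) := hf ▸ hq ▸ dvd_pow (even_iff_two_dvd.1 heven) two_ne_zero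
      have hp2 : p = 2 :=
        ((Nat.prime_dvd_prime_iff_eq Nat.prime_two Fact.out).1 (Nat.prime_two.dvd_of_dvd_pow h2)).symm
      subst hp2
      obtain ⟨k, -, hk⟩ := (Nat.dvd_prime_pow Nat.prime_two).1
        (show q ∣ 2 ^ (f : ℕ) from hf ▸ hq ▸ dvd_pow_self q two_ne_zero)
      exact ⟨k, hk⟩
    subst hk
    refine Or.inr (Or.inr (Or.inr (Or.inl ⟨F, inferInstance, inferInstance, k, ?_, ?_, ⟨e⟩⟩)))
    · by_contra hlt
      have : k = 1 ∨ k = 0 := by omega
      rcases this with h | h <;> rw [h] at h4 <;> norm_num at h4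
    · rw [hq, ← pow_mul, mul_comm, pow_mul]
      norm_num

/-- The conclusions of Walter's theorem are Goldschmidt groups. -/
theorem isGoldschmidtGroup_of_abSylow (hW : Walter.WalterList.{u}) {G : Type u} [Group G] [Finite G]
    [IsSimpleGroup G] (hna : ¬ IsMulCommutative G) (hS : AbelianSolvCent.AbSylow G) :
    Cfsg.IsGoldschmidtGroup G := by
  rcases hW G hna hS with ⟨n, hn, F, _, _, hF, ⟨e⟩⟩ | ⟨F, _, _, h5, h8, ⟨e⟩⟩ | h | ⟨F, _, _, _, ⟨c⟩⟩
  · exact isGoldschmidtGroup_two hn hF e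
  · exact Or.inr (Or.inr (Or.inr (Or.inr (Or.inl
      ⟨F, inferInstance, inferInstance, _, rfl, h5, h8, ⟨e⟩⟩))))
  · exact Or.inr (Or.inr (Or.inr (Or.inr (Or.inr (isoJ1_of_isJ1 h)))))
  · exact Or.inl (isReeType_of_ctx c)

theorem je_normalizer_mem {G : Type u} [Group G] [Finite G] {S : Subgroup G} {x : G} (hx : x ∈ S) :
    x ∈ normalizer (Cfsg.thompsonSubgroupOf 2 S : Set G) :=
  normalizer_je S (le_normalizer hx)

theorem le_normalClosure_map {G : Type u} [Group G] {N Z : Subgroup G} (h : Z ≤ N) :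
    Z ≤ (normalClosure ((Z.subgroupOf N : Subgroup N) : Set N)).map N.subtype := fun x hx =>
  ⟨⟨x, h hx⟩, subset_normalClosure (show (⟨x, h hx⟩ : N) ∈ Z.subgroupOf N from hx), rfl⟩

/-- Simple groups without section `S₄` are Goldschmidt groups. -/
theorem isGoldschmidtGroup_of_free (hG : SThreeFree.GoldschmidtInput.{u})
    (hW : Walter.WalterList.{u}) : ∀ n : ℕ, Below.{u} n := by
  intro n
  induction n with
  | zero => exact fun Y _ _ _ h => absurd h (Nat.not_lt_zero _)
  | succ n ih =>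
    intro G _ _ _ hle hna hfree
    haveI : Fact (Nat.Prime 2) := ⟨Nat.prime_two⟩
    obtain ⟨S⟩ : Nonempty (Sylow 2 G) := inferInstance
    have hsec : ∀ (K R : Subgroup G) [hR : (R.subgroupOf K).Normal],
        centralizer (Cfsg.pCore 2 (K ⧸ R.subgroupOf K) : Set (K ⧸ R.subgroupOf K)) ≤
          Cfsg.pCore 2 (K ⧸ R.subgroupOf K) → Good (K ⧸ R.subgroupOf K) := by
      intro K R _ hc
      refine good_constrained ih ?_ (fun h => hfree (SThreeFree.involves_section K _ h)) hc
      exact ((Nat.card_le_card_of_surjective _ (QuotientGroup.mk'_surjective _)).trans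
        (Subgroup.card_le_card_group K)).trans (Nat.lt_succ_iff.1 hle)
    obtain ⟨hAS, hAe, hAc, -⟩ := Cfsg.Agent.S2796.result hfree hsec S _ rfl _ rfl
    have heven : Even (Nat.card G) := by
      by_contra h
      haveI := Cfsg.Agent.S0205.result (Nat.not_even_iff_odd.1 h)
      exact hna ⟨⟨fun a b => IsSimpleGroup.comm_iff_isSolvable.2 inferInstance a b⟩⟩
    have hS : (S : Subgroup G) ≠ ⊥ := S.ne_bot_of_dvd_card (even_iff_two_dvd.1 heven)
    set N := normalizer (Cfsg.thompsonSubgroupOf 2 (S : Subgroup G) : Set G)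
    set Z := Cfsg.omegaOne 2 ((S : Subgroup G) ⊓ centralizer ((S : Subgroup G) : Set G))
    have hZN : Z ≤ N := fun x hx =>
      je_normalizer_mem (mem_inf.1 (CfsgLib.PGroups.omegaOne_le _ hx)).1
    have hAne : (normalClosure ((Z.subgroupOf N : Subgroup N) : Set N)).map N.subtype ≠ ⊥ := fun h =>
      SFourEmbedded.zS_ne_bot S.isPGroup' hS (le_bot_iff.1 ((le_normalClosure_map hZN).trans h.le))
    rcases hG G S _ hAne hAe.1 hAc with hab | ⟨H, hH⟩
    · refine isGoldschmidtGroup_of_abSylow hW hna fun P => ?_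
      let e := Sylow.equiv S P
      exact ⟨⟨fun a b => e.symm.injective (by rw [map_mul, map_mul]; exact hab.is_comm.comm _ _)⟩⟩
    · exact isGoldschmidtGroup_of_embedded hna hH

/-- S2754 from the two inputs. -/
theorem sfour_free_iff_of_inputs (hG : SThreeFree.GoldschmidtInput.{u})
    (hW : Walter.WalterList.{u}) {G : Type u} [Group G] [Finite G] [IsSimpleGroup G]
    (hna : ¬ IsMulCommutative G) :
    ¬ Cfsg.Involves (Equiv.Perm (Fin 4)) G ↔ Cfsg.IsGoldschmidtGroup G :=
  ⟨fun h => isGoldschmidtGroup_of_free hG hW (Nat.card G + 1) G (Nat.lt_succ_self _) hna h,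
    fun h => (Cfsg.Agent.S2755.result h).1⟩

end CfsgLib.LocalEven.GoldList
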